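import Groth.Agent.Lib.RelTilde8.QCoh
import Groth.Agent.Lib.RelTilde8.Sections
import Mathlib.AlgebraicGeometry.ProjectiveSpectrum.Functor

/-!
# Dehomogenisation at an element of degree one
-/

set_option autoImplicit false
set_option backward.isDefEq.respectTransparency false

universe u

open AlgebraicGeometry CategoryTheory TopologicalSpace Opposite DirectSum
open GrothLib.InvExt (mres)
open GrothLib.Ample (res)
open GrothLib.RelTilde8 (evM fracM)
open GrothLib.RelTilde8.O (ev)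

noncomputable section

namespace GrothLib.TildePull8

variable {A σ : Type u} [CommRing A] [SetLike σ A] [AddSubgroupClass σ A] {𝒜 : ℕ → σ} [GradedRing 𝒜]

theorem ev_ext {V : (Proj 𝒜).Opens} {r r' : Γ(Proj 𝒜, V)} (h : ∀ y, ev y r = ev y r') : r = r' :=
  Subtype.ext (funext fun y => HomogeneousLocalization.val_injective _ (h y))

theorem ev_add {V : (Proj 𝒜).Opens} (r r' : Γ(Proj 𝒜, V)) (y : V) : ev y (r + r') = ev y r + ev y r' :=
  HomogeneousLocalization.val_add _ _

theorem ev_mul {V : (Proj 𝒜).Opens} (r r' : Γ(Proj 𝒜, V)) (y : V) : ev y (r * r') = ev y r * ev y r' :=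
  HomogeneousLocalization.val_mul _ _

theorem ev_one {V : (Proj 𝒜).Opens} (y : V) : ev y (1 : Γ(Proj 𝒜, V)) = 1 :=
  HomogeneousLocalization.val_one

theorem ev_zero {V : (Proj 𝒜).Opens} (y : V) : ev y (0 : Γ(Proj 𝒜, V)) = 0 :=
  HomogeneousLocalization.val_zero

variable {f : A} (hf : f ∈ 𝒜 1)

/-- `f ^ k` is nonzero on `D(f)`. -/
def fpow (f : A) (k : ℕ) (y : Proj.basicOpen 𝒜 f) : y.1.asHomogeneousIdeal.toIdeal.primeCompl :=
  ⟨f ^ k, fun hm => y.2 (y.1.isPrime.mem_of_pow_mem k hm)⟩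

include hf in
theorem pow_mem' (k : ℕ) : f ^ k ∈ 𝒜 k := by simpa using SetLike.pow_mem_graded k hf

/-- `a / f ^ i` as a function on `D(f)`. -/
def dfun (i : ℕ) (a : 𝒜 i) : Γ(Proj 𝒜, Proj.basicOpen 𝒜 f) :=
  Proj.awayToSection 𝒜 f (HomogeneousLocalization.Away.mk 𝒜 hf i (a : A) (by simpa using a.2))

theorem ev_dfun (i : ℕ) (a : 𝒜 i) (y : Proj.basicOpen 𝒜 f) :
    ev y (dfun hf i a) = Localization.mk (a : A) (fpow f i y) := by
  refine (ProjectiveSpectrum.Proj.awayToSection_apply _ _ _ _).trans ?_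
  rw [HomogeneousLocalization.Away.val_mk, Localization.mk_eq_mk', IsLocalization.map_mk',
    Localization.mk_eq_mk']
  rfl

/-- `a / f ^ i`, additively. -/
def dhom (i : ℕ) : 𝒜 i →+ Γ(Proj 𝒜, Proj.basicOpen 𝒜 f) :=
  AddMonoidHom.mk' (dfun hf i) fun a b => ev_ext fun y => by
    rw [ev_add, ev_dfun, ev_dfun, ev_dfun, Localization.add_mk_self]
    rfl

/-- **Dehomogenisation** `A → Γ(D(f), O)`, `a ↦ Σ aᵢ / f ^ i`. -/
def dehom : A →+* Γ(Proj 𝒜, Proj.basicOpen 𝒜 f) :=
  (DirectSum.toSemiring (dhom hf)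
    (ev_ext fun y => by
      refine (ev_dfun hf 0 _ y).trans ?_
      rw [ev_one, ← Localization.mk_one]
      exact congrArg (Localization.mk (1 : A)) (Subtype.ext (pow_zero f)))
    (fun {i j} a b => ev_ext fun y => by
      refine (ev_dfun hf (i + j) _ y).trans ?_
      rw [ev_mul, show ev y (dhom hf i a) = _ from ev_dfun hf i a y,
        show ev y (dhom hf j b) = _ from ev_dfun hf j b y, Localization.mk_mul]
      exact congrArg₂ Localization.mk rfl (Subtype.ext (pow_add f i j)))).comp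
    (decomposeRingEquiv 𝒜).toRingHom

theorem dehom_of_mem {i : ℕ} {a : A} (ha : a ∈ 𝒜 i) : dehom hf a = dfun hf i ⟨a, ha⟩ := by
  simp only [dehom, RingHom.coe_comp, Function.comp_apply]
  erw [decompose_of_mem 𝒜 ha]
  rw [DirectSum.toSemiring_of]
  rfl

theorem ev_dehom_of_mem {i : ℕ} {a : A} (ha : a ∈ 𝒜 i) (y : Proj.basicOpen 𝒜 f) :
    ev y (dehom hf a) = Localization.mk a (fpow f i y) := by
  rw [dehom_of_mem hf ha, ev_dfun]

theorem dehom_self : dehom hf f = 1 := ev_ext fun y => by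
  rw [ev_dehom_of_mem hf hf, ev_one]
  refine Eq.trans ?_ (Localization.mk_self (fpow f 1 y))
  simp [fpow]

theorem dehom_surjective : Function.Surjective (dehom hf) := fun g => by
  obtain ⟨k, b, hb, h⟩ := RelTilde8.exists_ev_eq hf one_pos g
  refine ⟨b, ev_ext fun y => ?_⟩
  rw [ev_dehom_of_mem hf (show b ∈ 𝒜 k by simpa using hb), h y]
  rfl

section Module

variable {M τ : Type u} [AddCommGroup M] [Module A M] [SetLike τ M] [AddSubgroupClass τ M] {ℳ : ℕ → τ}
variable [SetLike.GradedSMul 𝒜 ℳ] [DirectSum.Decomposition ℳ] (n : ℤ)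

include hf in
theorem num_mem (i : ℕ) (m : ℳ i) : f ^ (n - i).toNat • (m : M) ∈ ℳ ((n - i).toNat + i) :=
  SetLike.GradedSMul.smul_mem (pow_mem' hf _) m.2

/-- `m · f ^ (n - i)` as a section of `M(n)~` over `D(f)`. -/
def mfun (i : ℕ) (m : ℳ i) : Γ(GrMod.tilde 𝒜 ℳ n, Proj.basicOpen 𝒜 f) :=
  fracM (f ^ (n - i).toNat • (m : M)) (f ^ (i - n).toNat) (num_mem hf n i m) (pow_mem' hf _)
    (fun y hm => y.2 (y.1.isPrime.mem_of_pow_mem _ hm)) (Or.inl (by omega))

theorem evM_mfun (i : ℕ) (m : ℳ i) (y : Proj.basicOpen 𝒜 f) :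
    evM y (mfun hf n i m) = LocalizedModule.mk (f ^ (n - i).toNat • (m : M)) (fpow f (i - n).toNat y) := rfl

/-- The same, additively. -/
def mhom (i : ℕ) : ℳ i →+ Γ(GrMod.tilde 𝒜 ℳ n, Proj.basicOpen 𝒜 f) :=
  AddMonoidHom.mk' (mfun hf n i) fun a b => RelTilde8.evM_ext fun y => by
    rw [RelTilde8.evM_add, evM_mfun, evM_mfun, evM_mfun, LocalizedModule.mk_add_mk]
    refine LocalizedModule.mk_eq.mpr ⟨1, ?_⟩
    simp [fpow, Submonoid.smul_def, smul_add, mul_smul]

/-- **Dehomogenisation** `M → Γ(D(f), M(n)~)`. -/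
def mdehom : M →+ Γ(GrMod.tilde 𝒜 ℳ n, Proj.basicOpen 𝒜 f) :=
  (DirectSum.toAddMonoid (mhom hf n)).comp (decomposeAddEquiv ℳ).toAddMonoidHom

theorem evM_mdehom_of_mem {i : ℕ} {m : M} (hm : m ∈ ℳ i) (y : Proj.basicOpen 𝒜 f) :
    evM y (mdehom (ℳ := ℳ) hf n m) = LocalizedModule.mk (f ^ (n - i).toNat • m) (fpow f (i - n).toNat y) := by
  show evM y (DirectSum.toAddMonoid (mhom hf n) (decompose ℳ m)) = _
  rw [decompose_of_mem ℳ hm, DirectSum.toAddMonoid_of]
  rfl

theorem mdehom_smul (a : A) (m : M) : mdehom (ℳ := ℳ) hf n (a • m : M) = dehom hf a • mdehom (ℳ := ℳ) hf n m := by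
  refine DirectSum.Decomposition.inductionOn 𝒜 (motive := fun a : A =>
    mdehom (ℳ := ℳ) hf n (a • m : M) = dehom hf a • mdehom (ℳ := ℳ) hf n m) ?_ ?_ ?_ a
  · simp only [zero_smul, map_zero]
  · intro i a
    refine DirectSum.Decomposition.inductionOn ℳ (motive := fun m : M =>
      mdehom (ℳ := ℳ) hf n ((a : A) • m) = dehom hf (a : A) • mdehom (ℳ := ℳ) hf n m) ?_ ?_ ?_ m
    · simp only [smul_zero, map_zero]
    · intro j b
      refine RelTilde8.evM_ext fun y => ?_
      rw [evM_mdehom_of_mem hf n (SetLike.GradedSMul.smul_mem a.2 b.2), RelTilde8.evM_smul,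
        ev_dehom_of_mem hf a.2, evM_mdehom_of_mem hf n b.2, LocalizedModule.mk_smul_mk]
      refine LocalizedModule.mk_eq.mpr ⟨1, ?_⟩
      simp only [vadd_eq_add, fpow, Submonoid.smul_def, Submonoid.coe_mul, OneMemClass.coe_one, one_smul]
      rw [smul_comm (a : A), ← mul_smul, ← mul_smul, ← mul_smul, ← mul_smul]
      simp only [← mul_assoc, ← pow_add]
      congr 3
      push_cast
      omega
    · intro x x' hx hx'
      simp only [smul_add, map_add, hx, hx']
  · intro a a' ha ha'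
    simp only [add_smul, map_add, ha, ha']

theorem mdehom_surjective : Function.Surjective (mdehom (ℳ := ℳ) hf n) := fun t => by
  obtain ⟨k, -, p, a, hp, ha, h⟩ := RelTilde8.exists_frac 𝒜 hf one_pos t
  refine ⟨a, RelTilde8.evM_ext fun y => ?_⟩
  rw [evM_mdehom_of_mem hf n ha, h y]
  refine LocalizedModule.mk_eq.mpr ⟨1, ?_⟩
  simp only [fpow, Submonoid.smul_def, OneMemClass.coe_one, one_smul]
  rw [← mul_smul, ← pow_add]
  congr 2
  push_cast at hp ⊢
  omega

/-- A module element killed by dehomogenisation dies wherever `f` acts as the identity. -/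
theorem map_eq_zero_of_mdehom_eq_zero {Q : Type*} [AddCommGroup Q] (g : M →+ Q)
    (hg : ∀ x : M, g (f • x) = g x) (x : M) (hx : mdehom (ℳ := ℳ) hf n x = 0) : g x = 0 := by
  classical
  have hgp : ∀ (k : ℕ) (z : M), g (f ^ k • z) = g z := fun k z => by
    induction k with
    | zero => rw [pow_zero, one_smul]
    | succ k ih => rw [pow_succ', mul_smul, hg, ih]
  let S := (decompose ℳ x).support
  let N := S.sup id
  let z : M := ∑ i ∈ S, f ^ (N - i) • (decompose ℳ x i : M)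
  have hz : z ∈ ℳ N := sum_mem fun i hi => by
    have h := SetLike.GradedSMul.smul_mem (pow_mem' hf (N - i)) (decompose ℳ x i).2
    rwa [show (N - i) +ᵥ i = N from Nat.sub_add_cancel (Finset.le_sup (f := id) hi)] at h
  have hgz : g z = g x := by
    conv_rhs => rw [← DirectSum.sum_support_decompose ℳ x]
    simp only [z, map_sum, hgp]
    rfl
  have hωz : mdehom (ℳ := ℳ) hf n z = 0 := by
    rw [← hx]
    conv_rhs => rw [← DirectSum.sum_support_decompose ℳ x]
    simp only [z, map_sum, mdehom_smul, map_pow, dehom_self, one_pow, one_smul]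
    rfl
  obtain ⟨K, hK⟩ := RelTilde8.exists_pow_smul_eq_zero_of_mk 𝒜 hf one_pos (num_mem hf n N ⟨z, hz⟩)
    fun y hy => ⟨fpow f (N - n).toNat ⟨y, hy⟩, by
      have h := congrArg (evM (⟨y, hy⟩ : Proj.basicOpen 𝒜 f)) hωz
      rwa [evM_mdehom_of_mem hf n hz, RelTilde8.evM_zero] at h⟩
  have h := congrArg g hK
  rwa [map_zero, hgp, hgp, hgz] at h

end Module

end GrothLib.TildePull8
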