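import Groth.Agent.Lib.TildePull8.Dehom
import Groth.Agent.Lib.QCoh.PullbackSections
import Groth.Agent.Lib.QCoh.Filtration
import Groth.Prelude.Def_RelProj3

/-!
# Inverse image of `M(n)~` along a graded base change
-/

set_option autoImplicit false
set_option backward.isDefEq.respectTransparency false
set_option linter.style.haveILetI false

universe u

open AlgebraicGeometry CategoryTheory TopologicalSpace Opposite DirectSum
open GrothLib.RelTilde8 (evM evM_ext fracM)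
open GrothLib.RelTilde8.O (ev)
open scoped HomogeneousIdeal

noncomputable section

namespace GrothLib.TildePull8

variable {A σ : Type u} [CommRing A] [SetLike σ A] [AddSubgroupClass σ A] {𝒜 : ℕ → σ} [GradedRing 𝒜]
variable {B σ' : Type u} [CommRing B] [SetLike σ' B] [AddSubgroupClass σ' B] {ℬ : ℕ → σ'} [GradedRing ℬ]
variable (ψ : 𝒜 →+*ᵍ ℬ) (hψ : ℬ₊ ≤ (𝒜₊).map ψ)

theorem basicOpen_le_preimage (f : A) :
    Proj.basicOpen ℬ (ψ f) ≤ Proj.map ψ hψ ⁻¹ᵁ Proj.basicOpen 𝒜 f :=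
  (Proj.map_preimage_basicOpen ψ hψ f).ge

theorem ev_appLE {V : (Proj 𝒜).Opens} {W : (Proj ℬ).Opens} (h : W ≤ Proj.map ψ hψ ⁻¹ᵁ V)
    (r : Γ(Proj 𝒜, V)) (y : W) (a s : A)
    (hs : s ∉ (ProjectiveSpectrum.comap ψ hψ y.1).asHomogeneousIdeal)
    (e : ev ⟨ProjectiveSpectrum.comap ψ hψ y.1, h y.2⟩ r = Localization.mk a ⟨s, hs⟩) :
    ev y (((Proj.map ψ hψ).appLE V W h).hom r) = Localization.mk (ψ a) ⟨ψ s, hs⟩ := by
  show ev ⟨y.1, h y.2⟩ (((Proj.map ψ hψ).app V).hom r) = _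
  refine (HomogeneousLocalization.val_localRingHom _).trans ?_
  refine (congrArg (Localization.localRingHom _ _ _ _) e).trans ?_
  erw [Localization.localRingHom_mk]
  all_goals rfl

theorem appLE_dehom {f : A} (hf : f ∈ 𝒜 1) (a : A) :
    ((Proj.map ψ hψ).appLE (Proj.basicOpen 𝒜 f) (Proj.basicOpen ℬ (ψ f)) (basicOpen_le_preimage ψ hψ f)).hom
      (dehom hf a) = dehom (ψ.map_mem hf) (ψ a) := by
  refine DirectSum.Decomposition.inductionOn 𝒜 (motive := fun a : A =>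
    ((Proj.map ψ hψ).appLE (Proj.basicOpen 𝒜 f) (Proj.basicOpen ℬ (ψ f)) (basicOpen_le_preimage ψ hψ f)).hom
      (dehom hf a) = dehom (ψ.map_mem hf) (ψ a)) ?_ ?_ ?_ a
  · simp only [map_zero]
  · intro i a
    refine ev_ext fun y => ?_
    refine Eq.trans ?_ (ev_dehom_of_mem (ψ.map_mem hf) (ψ.map_mem a.2) y).symm
    refine (ev_appLE ψ hψ _ _ y (a : A) (f ^ i) _ (ev_dehom_of_mem hf a.2 _)).trans ?_
    exact congrArg₂ Localization.mk rfl (Subtype.ext (map_pow ψ f i))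
  · intro a a' ha ha'
    simp only [map_add, ha, ha']

variable {M τ : Type u} [AddCommGroup M] [Module A M] [SetLike τ M] [AddSubgroupClass τ M] {ℳ : ℕ → τ}
  [SetLike.GradedSMul 𝒜 ℳ] [DirectSum.Decomposition ℳ]
variable {N τ' : Type u} [AddCommGroup N] [Module B N] [SetLike τ' N] [AddSubgroupClass τ' N] {𝒩 : ℕ → τ'}
  [SetLike.GradedSMul ℬ 𝒩] [DirectSum.Decomposition 𝒩]
variable (v : M →ₛₗ[ψ.toRingHom] N) (hv : ∀ (i : ℕ) (m : M), m ∈ ℳ i → v m ∈ 𝒩 i) (n : ℤ)

/-- The comparison takes `m · f ^ (n - i)` to `v m · ψ f ^ (n - i)`. -/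
theorem comap_mdehom {f : A} (hf : f ∈ 𝒜 1) (m : M) :
    (GrMod.tilde ℬ 𝒩 n).presheaf.map (homOfLE (basicOpen_le_preimage ψ hψ f)).op
      ((GrMod.comap ψ hψ v hv n).app (Proj.basicOpen 𝒜 f) (mdehom (ℳ := ℳ) hf n m)) =
      mdehom (ℳ := 𝒩) (ψ.map_mem hf) n (v m) := by
  refine DirectSum.Decomposition.inductionOn ℳ (motive := fun m : M =>
    (GrMod.tilde ℬ 𝒩 n).presheaf.map (homOfLE (basicOpen_le_preimage ψ hψ f)).op
      ((GrMod.comap ψ hψ v hv n).app (Proj.basicOpen 𝒜 f) (mdehom (ℳ := ℳ) hf n m)) =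
      mdehom (ℳ := 𝒩) (ψ.map_mem hf) n (v m)) ?_ ?_ ?_ m
  · simp only [map_zero]
  · intro i m
    refine evM_ext fun y => ?_
    rw [evM_mdehom_of_mem (ψ.map_mem hf) n (hv i m m.2)]
    refine (GrMod.comap_app_val ψ hψ v hv n _ _ ⟨y.1, basicOpen_le_preimage ψ hψ f y.2⟩).trans ?_
    refine (congrArg (GrMod.locModMap ψ hψ v y.1) (evM_mdehom_of_mem hf n m.2 _)).trans ?_
    refine (GrMod.locModMap_mk ψ hψ v y.1 _ _).trans (LocalizedModule.mk_eq.mpr ⟨1, ?_⟩)
    simp only [fpow, Submonoid.smul_def, OneMemClass.coe_one, one_smul, map_pow, map_smulₛₗ]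
    rfl
  · intro m m' hm hm'
    simp only [map_add, hm, hm']

variable (hbc : ∀ (Q : Type u) [AddCommGroup Q] [Module B Q] (w : M →ₛₗ[ψ.toRingHom] Q),
  ∃! g : N →ₗ[B] Q, ∀ m : M, g (v m) = w m)

set_option maxHeartbeats 1000000 in
include hbc in
theorem bijective_adjunct_app {f : A} (hf : f ∈ 𝒜 1) :
    Function.Bijective ((((Scheme.Modules.pullbackPushforwardAdjunction (Proj.map ψ hψ)).homEquiv _ _).symm
      (GrMod.comap ψ hψ v hv n)).app (Proj.basicOpen ℬ (ψ f))) := by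
  let j := Proj.map ψ hψ
  let G := GrMod.tilde 𝒜 ℳ n
  haveI : G.IsQuasicoherent := RelTilde8.isQuasicoherent_tilde n
  let F' := (Scheme.Modules.pullback j).obj G
  let a := ((Scheme.Modules.pullbackPushforwardAdjunction j).homEquiv _ _).symm (GrMod.comap ψ hψ v hv n)
  let U := Proj.basicOpen 𝒜 f
  let P := Proj.basicOpen ℬ (ψ f)
  have e : P ≤ j ⁻¹ᵁ U := basicOpen_le_preimage ψ hψ f
  letI : Algebra Γ(Proj 𝒜, U) Γ(Proj ℬ, P) := (j.appLE U P e).hom.toAlgebra
  have ha : ∀ s : Γ(G, U), a.app P (QCoh.pullSec j G e s) =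
      (GrMod.tilde ℬ 𝒩 n).presheaf.map (homOfLE e).op ((GrMod.comap ψ hψ v hv n).app U s) := fun s => by
    have hc : (Scheme.Modules.pullbackPushforwardAdjunction j).unit.app G ≫
        (Scheme.Modules.pushforward j).map a = GrMod.comap ψ hψ v hv n :=
      ((Scheme.Modules.pullbackPushforwardAdjunction j).homEquiv_unit _ _ a).symm.trans
        (Equiv.apply_symm_apply _ _)
    refine (congr($((Scheme.Modules.Hom.mapPresheaf a).naturality (homOfLE e).op) _)).trans ?_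
    exact congrArg ((GrMod.tilde ℬ 𝒩 n).presheaf.map (homOfLE e).op)
      (congrArg (fun φ => Scheme.Modules.Hom.app φ U s) hc)
  let hfB := ψ.map_mem hf
  letI : Module B Γ(F', P) := Module.compHom _ (dehom hfB)
  letI : Module B Γ(GrMod.tilde ℬ 𝒩 n, P) := Module.compHom _ (dehom hfB)
  let w : M →ₛₗ[ψ.toRingHom] Γ(F', P) :=
    { toFun := fun m => QCoh.pullSec j G e (mdehom hf n m)
      map_add' := fun m m' => by simp only [map_add]
      map_smul' := fun c m => by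
        refine (congrArg (QCoh.pullSec j G e) (mdehom_smul hf n c m)).trans ?_
        rw [QCoh.pullSec_smul]
        show _ = dehom hfB (ψ c) • QCoh.pullSec j G e (mdehom hf n m)
        rw [← appLE_dehom ψ hψ hf c] }
  obtain ⟨g, hg, -⟩ := hbc Γ(F', P) w
  let ωN : N →ₗ[B] Γ(GrMod.tilde ℬ 𝒩 n, P) :=
    { toFun := mdehom hfB n
      map_add' := map_add _
      map_smul' := fun b x => mdehom_smul hfB n b x }
  let ag : N →ₗ[B] Γ(GrMod.tilde ℬ 𝒩 n, P) :=
    { toFun := fun x => a.app P (g x)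
      map_add' := fun x y => by simp only [map_add]
      map_smul' := fun b x => (congrArg (a.app P) (g.map_smul b x)).trans
        (Scheme.Modules.Hom.app_smul a (dehom hfB b) (g x)) }
  let wN : M →ₛₗ[ψ.toRingHom] Γ(GrMod.tilde ℬ 𝒩 n, P) := ωN.comp v
  obtain ⟨g₀, -, huniq⟩ := hbc _ wN
  have hag : ag = ωN := (huniq ag fun m => by
    show a.app P (g (v m)) = mdehom hfB n (v m)
    rw [hg m]
    exact (ha _).trans (comap_mdehom ψ hψ v hv n hf m)).trans (huniq ωN fun m => rfl).symm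
  have hag' : ∀ x : N, a.app P (g x) = mdehom hfB n x := fun x => LinearMap.congr_fun hag x
  have hgsurj : Function.Surjective g := fun t => by
    obtain ⟨z, rfl⟩ := (QCoh.bijective_sectionsMap j G e rfl
      (Proj.isAffineOpen_basicOpen 𝒜 f hf one_pos) (Proj.isAffineOpen_basicOpen ℬ (ψ f) hfB one_pos)).2 t
    induction z using TensorProduct.induction_on with
    | zero => exact ⟨0, by simp only [map_zero]⟩
    | add x y hx hy =>
      obtain ⟨x', hx'⟩ := hx
      obtain ⟨y', hy'⟩ := hy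
      exact ⟨x' + y', by rw [map_add, map_add, hx', hy']⟩
    | tmul r s =>
      obtain ⟨b, rfl⟩ := dehom_surjective hfB r
      obtain ⟨m, rfl⟩ := mdehom_surjective (ℳ := ℳ) hf n s
      refine ⟨b • v m, ?_⟩
      rw [QCoh.sectionsMap_tmul, g.map_smul, hg m]
      rfl
  refine ⟨(injective_iff_map_eq_zero _).mpr fun t ht => ?_, fun t => ?_⟩
  · obtain ⟨x, rfl⟩ := hgsurj t
    refine map_eq_zero_of_mdehom_eq_zero hfB n g.toAddMonoidHom (fun z => ?_) x ((hag' x).symm.trans ht)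
    show g (ψ f • z) = g z
    rw [g.map_smul]
    show dehom hfB (ψ f) • g z = g z
    rw [show dehom hfB (ψ f) = 1 from dehom_self hfB, one_smul]
  · obtain ⟨x, rfl⟩ := mdehom_surjective (ℳ := 𝒩) hfB n t
    exact ⟨g x, hag' x⟩

include hbc in
/-- **`M(n)~` commutes with graded base change.** -/
theorem isIso_adjunct (hgen : (𝒜₊).toIdeal = Ideal.span (𝒜 1 : Set A)) :
    IsIso (((Scheme.Modules.pullbackPushforwardAdjunction (Proj.map ψ hψ)).homEquiv _ _).symm
      (GrMod.comap ψ hψ v hv n)) := by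
  haveI : (GrMod.tilde 𝒜 ℳ n).IsQuasicoherent := RelTilde8.isQuasicoherent_tilde n
  haveI : (GrMod.tilde ℬ 𝒩 n).IsQuasicoherent := RelTilde8.isQuasicoherent_tilde n
  haveI := FittSheaf.isQuasicoherent_pullback (Proj.map ψ hψ) (GrMod.tilde 𝒜 ℳ n)
  refine QCoh.isIso_of_bijective_on_cover _ (ι := {f : A // f ∈ 𝒜 1})
    (fun f => Proj.basicOpen ℬ (ψ f.1)) (top_le_iff.1 fun y _ => ?_)
    (fun f => Proj.isAffineOpen_basicOpen ℬ (ψ f.1) (ψ.map_mem f.2) one_pos)
    fun f => bijective_adjunct_app ψ hψ v hv n hbc f.2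
  by_contra hy
  refine y.not_irrelevant_le (le_trans hψ ?_)
  show Ideal.map ψ (𝒜₊).toIdeal ≤ y.asHomogeneousIdeal.toIdeal
  rw [hgen, Ideal.map_span, Ideal.span_le]
  rintro _ ⟨f, hf, rfl⟩
  by_contra hfy
  exact hy (Opens.mem_iSup.2 ⟨⟨f, hf⟩, hfy⟩)

end GrothLib.TildePull8
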